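import Cfsg.Agent.H661.SC.Fix
import Cfsg.Agent.H661.SC.NonPrin
import Cfsg.Agent.H33.IMAll

/-!
# S4526 (hub helper661): assembly of the rows `IMC p S` (task 3085, helper973)

* `Rows` : one field for each missing row; the rows of Lie type are only needed for `p` different from the defining
  characteristic and `p ^ 3 ∣ |S|`;
* `imc_known` : `IMC p S` for all known simple groups;
* `malle_navarro` : the statement of S4526 from `Rows` and the classification.
-/

set_option autoImplicit false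

open Cfsg

namespace Cfsg.Agent.H973.IMC

open Cfsg.Agent.H625.SylConst Cfsg.Agent.H661.SC

universe u

/-- a row, all primes -/
def Row (P : ∀ (S : Type u) [Group S], Prop) : Prop :=
  ∀ (S : Type u) [Group S] [Finite S], P S → IsSimpleGroup S → ∀ {p : ℕ} [Fact p.Prime], p ∣ Nat.card S → IMC p S

/-- a row, only the primes with `p ^ 3 ∣ |S|` -/
def RowC (P : ∀ (S : Type u) [Group S], Prop) : Prop :=
  ∀ (S : Type u) [Group S] [Finite S], P S → IsSimpleGroup S → ∀ {p : ℕ} [Fact p.Prime], p ^ 3 ∣ Nat.card S → IMC p S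

/-- a row of Lie type, only the primes with `p ^ 3 ∣ |S|` different from the defining characteristic -/
def RowL (P : ∀ (S : Type u) [Group S], Prop) : Prop :=
  ∀ (S : Type u) [Group S] [Finite S], P S → IsSimpleGroup S → ∀ {p : ℕ} [Fact p.Prime], p ^ 3 ∣ Nat.card S →
    ¬ IsLieTypeChar p S → IMC p S

theorem Row.rowC {P : ∀ (S : Type u) [Group S], Prop} (h : Row P) : RowC P :=
  fun S _ _ h1 hs _ _ h3 => h S h1 hs ((dvd_pow_self _ (by norm_num)).trans h3)

theorem RowC.rowL {P : ∀ (S : Type u) [Group S], Prop} (h : RowC P) : RowL P :=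
  fun S _ _ h1 hs _ _ h3 _ => h S h1 hs h3

theorem Row.rowL {P : ∀ (S : Type u) [Group S], Prop} (h : Row P) : RowL P := h.rowC.rowL

/-- the symplectic groups of dimension four -/
def IsPSpFour (S : Type u) [Group S] : Prop :=
  ∃ (F : Type) (_ : Field F) (_ : Fintype F), 3 ≤ Fintype.card F ∧ Nonempty (S ≃* PSp 2 F)

/-- the symplectic groups of dimension at least six -/
def IsPSpBig (S : Type u) [Group S] : Prop :=
  ∃ (F : Type) (_ : Field F) (_ : Fintype F) (m : ℕ), 3 ≤ m ∧ Nonempty (S ≃* PSp m F)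

/-- the unitary groups of dimension three -/
def IsPSUThree (S : Type u) [Group S] : Prop :=
  ∃ (F : Type) (_ : Field F) (_ : Fintype F) (q : ℕ), Fintype.card F = q ^ 2 ∧ q ≠ 2 ∧ Nonempty (S ≃* PSU 3 F q)

/-- the unitary groups of dimension at least four -/
def IsPSUBig (S : Type u) [Group S] : Prop :=
  ∃ (F : Type) (_ : Field F) (_ : Fintype F) (n q : ℕ), Fintype.card F = q ^ 2 ∧ 4 ≤ n ∧ Nonempty (S ≃* PSU n F q)

/-- **The rows.** -/
structure Rows : Prop where
  alt : RowC.{u} (fun S => IsAlternating S)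
  psl : RowL.{u} (fun S => IsPSL S)
  psp4 : RowL.{u} (fun S => IsPSpFour S)
  psp : RowL.{u} (fun S => IsPSpBig S)
  psu3 : RowL.{u} (fun S => IsPSUThree S)
  psu : RowL.{u} (fun S => IsPSUBig S)
  oodd : RowL.{u} (fun S => IsPOmegaOdd S)
  oplus : RowL.{u} (fun S => IsPOmegaPlus S)
  ominus : RowL.{u} (fun S => IsPOmegaMinus S)
  g2 : RowL.{u} (fun S => Lie.IsoChevG2 S)
  f4 : RowL.{u} (fun S => Lie.IsoF4 S)
  e6 : RowL.{u} (fun S => Lie.IsoChevE6 S)
  e7 : RowL.{u} (fun S => Lie.IsoE7 S)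
  e8 : RowL.{u} (fun S => Lie.IsoE8 S)
  te6 : RowL.{u} (fun S => Lie.Iso2E6 S)
  td4 : RowL.{u} (fun S => Lie.Iso3D4 S)
  sz : RowL.{u} (fun S => Lie.IsoSuzuki S)
  ree : RowL.{u} (fun S => Lie.IsoRee S)
  tf4 : RowL.{u} (fun S => Lie.Iso2F4 S)
  tits : RowC.{u} (fun S => Lie.IsoTits S)
  m11 : RowC.{u} (fun S => Spor.IsoM11 S)
  m12 : RowC.{u} (fun S => Spor.IsoM12 S)
  m22 : RowC.{u} (fun S => Spor.IsoM22 S)
  m23 : RowC.{u} (fun S => Spor.IsoM23 S)
  m24 : RowC.{u} (fun S => Spor.IsoM24 S)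
  j1 : RowC.{u} (fun S => Spor.IsoJ1 S)
  j2 : RowC.{u} (fun S => Spor.IsoJ2 S)
  j3 : RowC.{u} (fun S => Spor.IsoJ3 S)
  j4 : Row.{u} (fun S => Spor.IsoJ4 S)
  co1 : Row.{u} (fun S => Spor.IsoCo1 S)
  co2 : Row.{u} (fun S => Spor.IsoCo2 S)
  co3 : Row.{u} (fun S => Spor.IsoCo3 S)
  mcl : RowC.{u} (fun S => Spor.IsoMcL S)
  hs : RowC.{u} (fun S => Spor.IsoHS S)
  suz : RowC.{u} (fun S => Spor.IsoSuz S)
  he : RowC.{u} (fun S => Spor.IsoHe S)
  ru : RowC.{u} (fun S => Spor.IsoRu S)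
  on : Row.{u} (fun S => Spor.IsoON S)
  ly : Row.{u} (fun S => Spor.IsoLy S)
  fi22 : RowC.{u} (fun S => Spor.IsoFi22 S)
  fi23 : RowC.{u} (fun S => Spor.IsoFi23 S)
  fi24 : RowC.{u} (fun S => Spor.IsoFi24' S)
  hn : Row.{u} (fun S => Spor.IsoHN S)
  th : Row.{u} (fun S => Spor.IsoTh S)
  b : Row.{u} (fun S => Spor.IsoB S)
  m : Row.{u} (fun S => Spor.IsoM S)

/-- small Sylow subgroups -/
theorem RowC.full {P : ∀ (S : Type u) [Group S], Prop} (h : RowC P) {S : Type u} [Group S] [Finite S] (h1 : P S)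
    (hs : IsSimpleGroup S) {p : ℕ} [Fact p.Prime] (hI : H33.IM p S) : IMC p S := by
  by_cases h3 : p ^ 3 ∣ Nat.card S
  · exact h S h1 hs h3
  · exact imc_of_IM h3 hI

/-- small Sylow subgroups and the defining characteristic -/
theorem RowL.full {P : ∀ (S : Type u) [Group S], Prop} (h : RowL P) {S : Type u} [Group S] [Finite S] (h1 : P S)
    (hs : IsSimpleGroup S) {p : ℕ} [Fact p.Prime] (hd : p ∣ Nat.card S) (hI : H33.IM p S) : IMC p S := by
  by_cases hL : IsLieTypeChar p S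
  · exact imc_char hL hd
  by_cases h3 : p ^ 3 ∣ Nat.card S
  · exact h S h1 hs h3 hL
  · exact imc_of_IM h3 hI

/-- the sporadic groups -/
theorem imc_sporadic (R : Rows.{u}) {S : Type u} [Group S] [Finite S] (hs : IsSimpleGroup S)
    (h : IsSporadicGroup S) {p : ℕ} [hp : Fact p.Prime] (hd : p ∣ Nat.card S) : IMC p S := by
  rcases h with h | h | h | h | h | h | h | h | h | h | h | h | h | h | h | h | h | h | h | h | h |
    h | h | h | h | h
  · exact R.m11.full h hs (H852.IMMathieu.im_m11 h hd)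
  · exact R.m12.full h hs (H852.IMMathieu.im_m12 h hd)
  · exact R.m22.full h hs (H852.IMMathieu.im_m22 h hd)
  · exact R.m23.full h hs (H852.IMMathieu.im_m23 h hd)
  · exact R.m24.full h hs (H852.IMMathieu.im_m24 h hd)
  · exact R.j1.full h hs (H492.IMJ1.im_j1 h hd)
  · exact R.j2.full h hs (H852.IMJTwo.im_j2 h hd)
  · exact R.j3.full h hs (H492.IMJ3.im_j3 h hd)
  · exact R.j4 S h hs hd
  · exact R.co1 S h hs hd
  · exact R.co2 S h hs hd
  · exact R.co3 S h hs hd
  · exact R.mcl.full h hs (H852.IMMcL.im_mcl h hd)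
  · exact R.hs.full h hs (H852.IMHS.im_hs h hd)
  · exact R.suz.full h hs (H852.IMSuz.im_suz h hd)
  · exact R.he.full h hs (H492.IMHe.im_he h hd)
  · exact R.ru.full h hs (H870.IMRu.im_ru h hd)
  · exact R.on S h hs hd
  · exact R.ly S h hs hd
  · exact R.fi22.full h hs (H870.IMFi22.im_fi22 h hd)
  · exact R.fi23.full h hs (H870.IMFi23.im_fi23 h hd)
  · exact R.fi24.full h hs (H30.IMFi24.im_fi24 h hd)
  · exact R.hn S h hs hd
  · exact R.th S h hs hd
  · exact R.b S h hs hd
  · exact R.m S h hs hd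

/-- the exceptional groups of Lie type and the Tits group -/
theorem imc_exceptional (R : Rows.{u}) {S : Type u} [Group S] [Finite S] (hs : IsSimpleGroup S)
    (h : IsExceptionalLieType S) {p : ℕ} [hp : Fact p.Prime] (hd : p ∣ Nat.card S) : IMC p S := by
  have hI := H33.im_exceptional h hs hd
  rcases h with h | h | h | h | h | h | h | h | h | h | h
  · exact R.g2.full h hs hd hI
  · exact R.f4.full h hs hd hI
  · exact R.e6.full h hs hd hI
  · exact R.e7.full h hs hd hI
  · exact R.e8.full h hs hd hI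
  · exact R.te6.full h hs hd hI
  · exact R.td4.full h hs hd hI
  · exact R.sz.full h hs hd hI
  · exact R.ree.full h hs hd hI
  · exact R.tf4.full h hs hd hI
  · exact R.tits.full h hs hI

/-- **All known simple groups.** -/
theorem imc_known (R : Rows.{u}) {S : Type u} [Group S] [Finite S] (hs : IsSimpleGroup S)
    (h : IsKnownSimple' S) (hc : ¬ IsMulCommutative S) {p : ℕ} [hp : Fact p.Prime] (hd : p ∣ Nat.card S) :
    IMC p S := by
  by_cases hsp : IsSporadicGroup S
  · exact imc_sporadic R hs hsp hd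
  have hI := H33.im_nonsporadic hs h hc hsp hd
  rcases h with h | h | h | h | h | h | h | h | h | h
  · exfalso
    apply hc
    have : Fact (Nat.card S).Prime := ⟨h⟩
    have h1 : IsCyclic S := isCyclic_of_prime_card rfl
    exact ⟨⟨fun a b => (IsCyclic.commGroup (α := S)).mul_comm a b⟩⟩
  · exact R.alt.full h hs hI
  · exact R.psl.full h hs hd hI
  · obtain ⟨F, i1, i2, m, hm, h3, he⟩ := h
    rcases Nat.lt_or_ge m 3 with h4 | h4
    · have h5 : m = 2 := by omega
      subst h5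
      exact R.psp4.full (S := S) ⟨F, i1, i2, h3 rfl, he⟩ hs hd hI
    · exact R.psp.full (S := S) ⟨F, i1, i2, m, h4, he⟩ hs hd hI
  · obtain ⟨F, i1, i2, n, q, hF, hn, h3, he⟩ := h
    rcases Nat.lt_or_ge n 4 with h4 | h4
    · have h5 : n = 3 := by omega
      subst h5
      exact R.psu3.full (S := S) ⟨F, i1, i2, q, hF, fun h6 => h3 ⟨rfl, h6⟩, he⟩ hs hd hI
    · exact R.psu.full (S := S) ⟨F, i1, i2, n, q, hF, h4, he⟩ hs hd hI
  · exact R.oodd.full h hs hd hI
  · exact R.oplus.full h hs hd hI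
  · exact R.ominus.full h hs hd hI
  · exact imc_exceptional R hs h hd
  · exact absurd h hsp

/-- **S4526** from the rows and the classification. -/
theorem malle_navarro (R : Rows.{u}) (hK : ∀ (X : Type u) [Group X] [Finite X] [IsSimpleGroup X], IsKnownSimple' X)
    {G : Type u} [Group G] [Fintype G] (p : ℕ) [Fact p.Prime] (P : Sylow p G) :
    (P : Subgroup G).Normal ↔ ∀ χ : Cfsg.IrrCharacter G,
      Cfsg.classInner (Cfsg.indFun (P : Subgroup G) (fun _ => (1 : ℂ))) (χ : G → ℂ) ≠ 0 →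
        ¬ p ∣ Cfsg.charDegree (χ : G → ℂ) :=
  main (fun S _ _ hs hc hd => imc_known R hs (hK S) hc hd) P

end Cfsg.Agent.H973.IMC
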